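import Groth.Agent.Lib.ToposFin.Algebraic
import Groth.Agent.Lib.ToposFin.Present
import Groth.Prelude.Def_CohCx

/-!
# The class of sheaves separated relative to a class of quasi-compact objects

Given a class `S` covering finite limits of its members, the sheaves covered by a member whose fibre
products of members are again covered form a class closed under fibre products.
-/

set_option autoImplicit false
set_option backward.isDefEq.respectTransparency false
set_option linter.style.haveILetI false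

universe u

open CategoryTheory CategoryTheory.Limits Opposite ToposFin

namespace Groth.Agent.QcGen16

open Groth.Agent.Topos

variable {C : Type u} [SmallCategory C] {J : GrothendieckTopology C} (S : Set (Sheaf J (Type u)))

/-- Covered by a member of `S`. -/
def Cov (L : Sheaf J (Type u)) : Prop := ∃ (K : Sheaf J (Type u)) (p : K ⟶ L), K ∈ S ∧ Epi p

/-- Fibre products of members over `L` are covered. -/
def Sep (L : Sheaf J (Type u)) : Prop :=
  ∀ (K K' : Sheaf J (Type u)) (a : K ⟶ L) (b : K' ⟶ L), K ∈ S → K' ∈ S → Cov S (pullback a b)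

/-- Covered and separated. -/
def T : Set (Sheaf J (Type u)) := {L | Cov S L ∧ Sep S L}

variable {S}

theorem Cov.mem {K : Sheaf J (Type u)} (hK : K ∈ S) : Cov S K := ⟨K, 𝟙 K, hK, inferInstance⟩

theorem Cov.of_epi {L L' : Sheaf J (Type u)} (h : Cov S L) (p : L ⟶ L') [Epi p] : Cov S L' := by
  obtain ⟨K, q, hK, hq⟩ := h
  exact ⟨K, q ≫ p, hK, epi_comp q p⟩

theorem Cov.of_section {L L' : Sheaf J (Type u)} (h : Cov S L) (p : L ⟶ L') (s : L' ⟶ L) (hs : s ≫ p = 𝟙 L') :
    Cov S L' :=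
  haveI : Epi p := (SplitEpi.mk s hs).epi
  h.of_epi p

theorem isPullback_equalizer_map {X K L : Sheaf J (Type u)} (e : K ⟶ X) (f g : X ⟶ L) :
    IsPullback (equalizer.ι (e ≫ f) (e ≫ g))
      (equalizer.lift (equalizer.ι (e ≫ f) (e ≫ g) ≫ e) (by simpa using equalizer.condition (e ≫ f) (e ≫ g)) :
        equalizer (e ≫ f) (e ≫ g) ⟶ equalizer f g)
      e (equalizer.ι f g) := by
  refine IsPullback.of_isLimit' ⟨by simp⟩ (PullbackCone.IsLimit.mk _
    (fun s => equalizer.lift s.fst (by rw [reassoc_of% s.condition, reassoc_of% s.condition, equalizer.condition]))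
    (fun s => by simp) (fun s => equalizer.hom_ext (by simp [s.condition]))
    fun s m h₁ _ => equalizer.hom_ext (by simpa using h₁))

theorem epi_pullback_map {A A' B B' Z : Sheaf J (Type u)} (e : A' ⟶ A) (e' : B' ⟶ B) [Epi e] [Epi e']
    (a : A ⟶ Z) (b : B ⟶ Z) :
    Epi (pullback.map (e ≫ a) (e' ≫ b) a b e e' (𝟙 Z) (by simp) (by simp)) := by
  have h₁ : IsPullback (pullback.snd (e ≫ a) (e' ≫ b))
      (pullback.map (e ≫ a) (e' ≫ b) (e ≫ a) b (𝟙 _) e' (𝟙 Z) (by simp) (by simp)) e'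
      (pullback.snd (e ≫ a) b) := by
    refine IsPullback.of_bot ?_ (by simp) (IsPullback.of_hasPullback (e ≫ a) b).flip
    simpa using (IsPullback.of_hasPullback (e ≫ a) (e' ≫ b)).flip
  have h₂ : IsPullback (pullback.fst (e ≫ a) b)
      (pullback.map (e ≫ a) b a b e (𝟙 _) (𝟙 Z) (by simp) (by simp)) e (pullback.fst a b) := by
    refine IsPullback.of_bot ?_ (by simp) (IsPullback.of_hasPullback a b)
    simpa using IsPullback.of_hasPullback (e ≫ a) b
  haveI : Epi (pullback.map (e ≫ a) (e' ≫ b) (e ≫ a) b (𝟙 _) e' (𝟙 Z) (by simp) (by simp)) :=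
    epi_of_isPullback h₁
  haveI : Epi (pullback.map (e ≫ a) b a b e (𝟙 _) (𝟙 Z) (by simp) (by simp)) := epi_of_isPullback h₂
  have he : pullback.map (e ≫ a) (e' ≫ b) a b e e' (𝟙 Z) (by simp) (by simp) =
      pullback.map (e ≫ a) (e' ≫ b) (e ≫ a) b (𝟙 _) e' (𝟙 Z) (by simp) (by simp) ≫
        pullback.map (e ≫ a) b a b e (𝟙 _) (𝟙 Z) (by simp) (by simp) := by
    ext <;> simp
  rw [he]
  exact epi_comp _ _

theorem Sep.pullback {L X Y : Sheaf J (Type u)} (hL : Sep S L) (hX : Cov S X) (hY : Cov S Y) (a : X ⟶ L)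
    (b : Y ⟶ L) : Cov S (Limits.pullback a b) := by
  obtain ⟨K, p, hK, hp⟩ := hX
  obtain ⟨K', q, hK', hq⟩ := hY
  exact @Cov.of_epi _ _ _ _ _ _ (hL K K' (p ≫ a) (q ≫ b) hK hK') _ (epi_pullback_map p q a b)

variable
  (h3 : ∀ K ∈ S, ∀ K' ∈ S, ∃ (K'' : Sheaf J (Type u)) (g : K'' ⟶ K ⨯ K'), K'' ∈ S ∧ Epi g)
  (h4 : ∀ K ∈ S, ∀ K' ∈ S, ∀ (a b : K ⟶ K'), ∃ (K'' : Sheaf J (Type u)) (g : K'' ⟶ equalizer a b), K'' ∈ S ∧ Epi g)

include h4 in
theorem Cov.equalizer_mem {X L : Sheaf J (Type u)} (hX : Cov S X) (hL : L ∈ S) (f g : X ⟶ L) :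
    Cov S (equalizer f g) := by
  obtain ⟨K, e, hK, he⟩ := hX
  haveI := epi_of_isPullback (isPullback_equalizer_map e f g)
  exact (h4 K hK L hL (e ≫ f) (e ≫ g)).elim fun K'' ⟨r, hK'', hr⟩ => Cov.of_epi ⟨K'', r, hK'', hr⟩
    (equalizer.lift (equalizer.ι (e ≫ f) (e ≫ g) ≫ e) _)

include h3 h4 in
theorem sep_of_mem {L : Sheaf J (Type u)} (hL : L ∈ S) : Sep S L := fun K K' a b hK hK' => by
  obtain ⟨K'', g, hK'', hg⟩ := h3 K hK K' hK'
  have hc : Cov S (K ⨯ K') := ⟨K'', g, hK'', hg⟩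
  refine (Cov.equalizer_mem h4 hc hL (prod.fst ≫ a) (prod.snd ≫ b)).of_section
    (pullback.lift (equalizer.ι _ _ ≫ prod.fst) (equalizer.ι _ _ ≫ prod.snd)
      (by simpa using equalizer.condition (prod.fst ≫ a) (prod.snd ≫ b)))
    (equalizer.lift (prod.lift (pullback.fst a b) (pullback.snd a b)) (by simp [pullback.condition])) ?_
  ext <;> simp

include h3 h4 in
theorem mem_T {K : Sheaf J (Type u)} (hK : K ∈ S) : K ∈ T S := ⟨Cov.mem hK, sep_of_mem h3 h4 hK⟩

include h4 in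
theorem Sep.equalizer {X L : Sheaf J (Type u)} (hL : Sep S L) (hX : Cov S X) (f g : X ⟶ L) :
    Cov S (Limits.equalizer f g) := by
  obtain ⟨K, e, hK, he⟩ := hX
  haveI := epi_of_isPullback (isPullback_equalizer_map e f g)
  refine Cov.of_epi ?_ (equalizer.lift (equalizer.ι (e ≫ f) (e ≫ g) ≫ e) _)
  let p := e ≫ f
  let q := e ≫ g
  refine ((hL K K p q hK hK).equalizer_mem h4 hK (pullback.fst p q) (pullback.snd p q)).of_section
    (equalizer.lift (equalizer.ι (pullback.fst p q) (pullback.snd p q) ≫ pullback.fst p q) (by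
      rw [Category.assoc, pullback.condition, ← Category.assoc, ← equalizer.condition]))
    (equalizer.lift (pullback.lift (equalizer.ι p q) (equalizer.ι p q) (equalizer.condition _ _)) (by simp)) ?_
  apply equalizer.hom_ext
  simp
  rfl

include h4 in
theorem T.pullback {X Y Z : Sheaf J (Type u)} (hX : X ∈ T S) (hY : Y ∈ T S) (hZ : Z ∈ T S) (a : X ⟶ Z)
    (b : Y ⟶ Z) : Limits.pullback a b ∈ T S := by
  refine ⟨hZ.2.pullback hX.1 hY.1 a b, fun K K' f g hK hK' => ?_⟩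
  let W := Limits.pullback (f ≫ pullback.fst a b) (g ≫ pullback.fst a b)
  let f₂ : W ⟶ Y := pullback.fst _ _ ≫ f ≫ pullback.snd a b
  let g₂ : W ⟶ Y := pullback.snd _ _ ≫ g ≫ pullback.snd a b
  refine (hY.2.equalizer h4 (hX.2 K K' _ _ hK hK') f₂ g₂).of_section
    (pullback.lift (equalizer.ι f₂ g₂ ≫ pullback.fst _ _) (equalizer.ι f₂ g₂ ≫ pullback.snd _ _) ?_)
    (equalizer.lift (pullback.lift (pullback.fst f g) (pullback.snd f g)
      (by simp [pullback.condition_assoc])) (by simp [f₂, g₂, pullback.condition_assoc])) ?_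
  · apply pullback.hom_ext
    · simp [W, pullback.condition]
    · simpa [f₂, g₂] using equalizer.condition f₂ g₂
  · ext <;> simp

theorem Cov.isQC (h5 : ∀ K ∈ S, CohCx.IsQcObject K) {L : Sheaf J (Type u)} (h : Cov S L) : IsQC L := by
  obtain ⟨K, p, hK, hp⟩ := h
  refine qc_of_epi p fun ι F π hπ => ?_
  obtain ⟨t, ht⟩ := h5 K hK ι F π fun U s => ⟨_, (jepi_iff π).1 hπ U s, fun V g hg => hg⟩
  refine ⟨t, (jepi_iff _).2 fun U s => ?_⟩
  obtain ⟨R, hR, hR'⟩ := ht U s
  exact J.superset_covering (fun V g hg => hR' V g hg) hR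

variable (h1 : ∃ K ∈ S, Epi (terminal.from K))

include h1 h3 in
theorem terminal_mem_T : (⊤_ (Sheaf J (Type u))) ∈ T S := by
  obtain ⟨K, hK, hKe⟩ := h1
  refine ⟨⟨K, terminal.from K, hK, hKe⟩, fun A B a b hA hB => ?_⟩
  obtain ⟨K'', g, hK'', hg⟩ := h3 A hA B hB
  have hc : Cov S (A ⨯ B) := ⟨K'', g, hK'', hg⟩
  refine Cov.of_section hc
    (pullback.lift prod.fst prod.snd (terminalIsTerminal.hom_ext _ _))
    (prod.lift (pullback.fst a b) (pullback.snd a b)) ?_
  ext <;> simp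

variable (h2 : ∀ (F : Sheaf J (Type u)) (K : Sheaf J (Type u)) (g : F ⟶ K), K ∈ S → Epi g →
  ∃ (K' : Sheaf J (Type u)) (k : K' ⟶ F), K' ∈ S ∧ Epi (k ≫ g))

include h2 in
theorem Cov.refine {K X : Sheaf J (Type u)} (hK : Cov S K) (π : X ⟶ K) [Epi π] :
    ∃ (K' : Sheaf J (Type u)) (k : K' ⟶ X), K' ∈ S ∧ Epi (k ≫ π) := by
  obtain ⟨K₀, p, hK₀, hp⟩ := hK
  haveI : Epi (pullback.snd π p) := epi_of_isPullback (IsPullback.of_hasPullback π p)
  obtain ⟨K', k, hK', hk⟩ := h2 _ K₀ (pullback.snd π p) hK₀ inferInstance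
  refine ⟨K', k ≫ pullback.fst π p, hK', ?_⟩
  rw [Category.assoc, pullback.condition, ← Category.assoc]
  exact epi_comp _ _

end Groth.Agent.QcGen16
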