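import Groth.Agent.Lib.QcGen16.Class
import Groth.Agent.Lib.ExtColim.Coherent
import Groth.Agent.Lib.ExtColim.Support

/-!
# Filtered colimits and cohomology for a class of quasi-compact objects
-/

set_option autoImplicit false
set_option backward.isDefEq.respectTransparency false
set_option linter.style.haveILetI false

universe u

open CategoryTheory CategoryTheory.Limits Opposite Abelian AlgebraicTopology Simplicial ToposFin

namespace Groth.Agent.QcGen16

open Groth.Agent.SiteCoh Groth.Agent.Topos Groth.Agent.CohColim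

variable {C : Type u} [SmallCategory C] {J : GrothendieckTopology C} {S : Set (Sheaf J (Type u))}

theorem mem_T_of_iso {L L' : Sheaf J (Type u)} (e : L ≅ L') (h : L ∈ T S) : L' ∈ T S := by
  refine ⟨h.1.of_epi e.hom, fun K K' a b hK hK' => ?_⟩
  exact (h.2 K K' (a ≫ e.inv) (b ≫ e.inv) hK hK').of_section
    (pullback.lift (pullback.fst _ _) (pullback.snd _ _) (by
      rw [← cancel_mono e.inv, Category.assoc, Category.assoc]; exact pullback.condition))
    (pullback.lift (pullback.fst _ _) (pullback.snd _ _) (by rw [pullback.condition_assoc]))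
    (by ext <;> simp)

variable (h2 : ∀ (F : Sheaf J (Type u)) (K : Sheaf J (Type u)) (g : F ⟶ K), K ∈ S → Epi g →
    ∃ (K' : Sheaf J (Type u)) (k : K' ⟶ F), K' ∈ S ∧ Epi (k ≫ g))
  (h3 : ∀ K ∈ S, ∀ K' ∈ S, ∃ (K'' : Sheaf J (Type u)) (g : K'' ⟶ K ⨯ K'), K'' ∈ S ∧ Epi g)
  (h4 : ∀ K ∈ S, ∀ K' ∈ S, ∀ (a b : K ⟶ K'), ∃ (K'' : Sheaf J (Type u)) (g : K'' ⟶ equalizer a b), K'' ∈ S ∧ Epi g)
  (h5 : ∀ K ∈ S, CohCx.IsQcObject K)

include h4 in
theorem mem_T_widePullback {K' K : Sheaf J (Type u)} (f : K' ⟶ K) (hK : K ∈ T S) (hK' : K' ∈ T S) :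
    ∀ n : ℕ, (widePullback.{0} K (fun _ : Fin (n + 1) => K') fun _ => f) ∈ T S
  | 0 => by
    refine mem_T_of_iso ?_ hK'
    exact
      { hom := WidePullback.lift f (fun _ => 𝟙 K') (fun _ => Category.id_comp f)
        inv := WidePullback.π (fun _ : Fin (0 + 1) => f) 0
        hom_inv_id := WidePullback.lift_π _ _ _ _ _
        inv_hom_id := by
          refine WidePullback.hom_ext _ _ _ (fun i => ?_) ?_
          · rw [Category.assoc, WidePullback.lift_π, Category.comp_id, Category.id_comp, show i = 0 from Fin.ext (by omega)]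
          · rw [Category.assoc, WidePullback.lift_base, Category.id_comp, WidePullback.π_arrow] }
  | n + 1 => by
    refine mem_T_of_iso ?_ (T.pullback h4 (mem_T_widePullback f hK hK' n) hK' hK
      (WidePullback.base (fun _ : Fin (n + 1) => f)) f)
    refine
      { hom := WidePullback.lift (pullback.snd _ _ ≫ f)
          (Fin.lastCases (pullback.snd _ _) fun i => pullback.fst _ _ ≫ WidePullback.π _ i) ?_
        inv := pullback.lift
          (WidePullback.lift (WidePullback.base _) (fun i => WidePullback.π _ i.castSucc)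
            fun i => WidePullback.π_arrow _ _)
          (WidePullback.π _ (Fin.last _)) ?_
        hom_inv_id := ?_
        inv_hom_id := ?_ }
    · intro i
      induction i using Fin.lastCases with
      | last => simp
      | cast i => simp [WidePullback.π_arrow, pullback.condition]
    · rw [WidePullback.lift_base, WidePullback.π_arrow]
    · refine pullback.hom_ext ?_ ?_
      · refine WidePullback.hom_ext _ _ _ (fun i => ?_) ?_
        · simp
        · simp [pullback.condition]
      · simp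
    · refine WidePullback.hom_ext _ _ _ (fun i => ?_) ?_
      · induction i using Fin.lastCases with
        | last => simp
        | cast i => simp
      · simp [WidePullback.π_arrow]

include h4 in
theorem mem_T_nerve {K' K : Sheaf J (Type u)} (f : K' ⟶ K) (hK : K ∈ T S) (hK' : K' ∈ T S) (n : ℕ) :
    (Arrow.mk f).cechNerve.obj (op ⦋n⦌) ∈ T S :=
  mem_T_widePullback h4 f hK hK' n

include h4 h5 h2 in
theorem hom_bijective {X : Sheaf J (Type u)} (hX : X ∈ T S) {I : Type u}
    [SmallCategory I] [IsFiltered I] (D : I ⥤ Sh J) :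
    Function.Bijective (colimit.post D (coyoneda.obj (op X))) := by
  classical
  have hqc : IsQC X := hX.1.isQC h5
  refine ⟨hom_colimit_injective hqc D, (post_surjective_iff D X).2 fun c => ?_⟩
  obtain ⟨s, hs⟩ := hqc I _ _ (jepi_pullback _ (jepi_colimit_ι D) c)
  obtain ⟨j, hj⟩ := IsFiltered.sup_objs_exists s
  let m : ∀ p : s, p.1 ⟶ j := fun p => (hj p.2).some
  let q : (∐ fun p : s => pullback (colimit.ι D p.1) c) ⟶ X :=
    Sigma.desc fun p : s => pullback.snd (colimit.ι D p.1) c
  have : Epi q := hs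
  let l : (∐ fun p : s => pullback (colimit.ι D p.1) c) ⟶ D.obj j :=
    Sigma.desc fun p : s => pullback.fst (colimit.ι D p.1) c ≫ D.map (m p)
  have hl : l ≫ colimit.ι D j = q ≫ c := by
    refine Limits.Sigma.hom_ext _ _ fun p => ?_
    simp [l, q, colimit.w, pullback.condition]
  obtain ⟨K', r, hK', hr⟩ := hX.1.refine h2 q
  haveI := hr
  have hR : IsQC (pullback (r ≫ q) (r ≫ q)) := Cov.isQC h5 (hX.2 K' K' _ _ hK' hK')
  obtain ⟨k, f, hf⟩ := exists_stage_eq D hR (pullback.fst (r ≫ q) (r ≫ q) ≫ r ≫ l)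
    (pullback.snd (r ≫ q) (r ≫ q) ≫ r ≫ l) (by
      simp only [Category.assoc, hl]
      simpa using congrArg (· ≫ c) (pullback.condition (f := r ≫ q) (g := r ≫ q)))
  obtain ⟨a, ha⟩ := desc_of_epi (r ≫ q) (r ≫ l ≫ D.map f) (by simpa using hf)
  refine ⟨k, a, ?_⟩
  rw [← cancel_epi (r ≫ q), ← Category.assoc, ha]
  simp [hl]

include h2 h4 h5 in
theorem hom_free {K : Sh J} (hK : K ∈ T S) {Λ : Type u} [SmallCategory Λ]
    [IsFiltered Λ] (D : Λ ⥤ Sheaf J AddCommGrpCat.{u}) :
    (∀ x : (frP J).obj K.obj ⟶ colimit D, ∃ (i : Λ) (y : (frP J).obj K.obj ⟶ D.obj i), y ≫ colimit.ι D i = x) ∧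
      ∀ (i : Λ) (y : (frP J).obj K.obj ⟶ D.obj i), y ≫ colimit.ι D i = 0 →
        ∃ (j : Λ) (f : i ⟶ j), y ≫ D.map f = 0 := by
  let adj := Sheaf.adjunction J AddCommGrpCat.adj
  let e := preservesColimitIso (und J) D
  have hb := hom_bijective h2 h4 h5 hK (D ⋙ und J)
  have hι : ∀ i, (und J).map (colimit.ι D i) ≫ e.hom = colimit.ι (D ⋙ und J) i := fun i =>
    ι_preservesColimitIso_hom (und J) D i
  refine ⟨fun x => ?_, fun i y hy => ?_⟩
  · obtain ⟨i, a, ha⟩ := (post_surjective_iff (D ⋙ und J) K).1 hb.2 (adj.homEquiv K _ x ≫ e.hom)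
    refine ⟨i, (adj.homEquiv K _).symm a, (adj.homEquiv K _).injective ?_⟩
    erw [adj.homEquiv_naturality_right, Equiv.apply_symm_apply]
    rw [← cancel_mono e.hom, Category.assoc, hι, ha]
  · obtain ⟨j, f, hf⟩ := (post_injective_iff (D ⋙ und J) K).1 hb.1 i (adj.homEquiv K _ y)
      (adj.homEquiv K _ 0) (by
        rw [← hι i, ← Category.assoc, ← Category.assoc]
        refine congrArg (· ≫ e.hom) ?_
        erw [← adj.homEquiv_naturality_right, ← adj.homEquiv_naturality_right, hy, zero_comp])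
    refine ⟨j, f, (adj.homEquiv K _).injective ?_⟩
    erw [adj.homEquiv_naturality_right, hf, ← adj.homEquiv_naturality_right, zero_comp]


variable (S) in
/-- Čech exactness. -/
def CechExact (F : Sheaf J AddCommGrpCat.{u}) : Prop :=
  ∀ (K' K : Sh J) (f : K' ⟶ K), K ∈ QcGen16.T S → K' ∈ QcGen16.T S → Epi f → ∀ q, HomExactAt (frCx f) F q

include h2 h3 h4 in
theorem exists_lift {T : ShortComplex (Sheaf J AddCommGrpCat.{u})} (hT : T.ShortExact)
    (h : CechExact S T.X₁) (K : Sh J) (hK : K ∈ QcGen16.T S) (φ : (frP J).obj K.obj ⟶ T.X₃) :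
    ∃ ψ : (frP J).obj K.obj ⟶ T.X₂, ψ ≫ T.g = φ := by
  let adj := Sheaf.adjunction J AddCommGrpCat.adj
  haveI := hT.epi_g
  haveI hls : Sheaf.IsLocallySurjective T.g := (Sheaf.isLocallySurjective_iff_epi' _ T.g).2 inferInstance
  let φ' : K ⟶ (und J).obj T.X₃ := adj.homEquiv K T.X₃ φ
  haveI : Sheaf.IsLocallySurjective ((und J).map T.g) := by
    constructor
    intro U s
    exact Presheaf.imageSieve_mem J T.g.hom (U := op U) s
  haveI : Epi ((und J).map T.g) := inferInstance
  haveI : Epi (pullback.fst φ' ((und J).map T.g)) :=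
    epi_of_isPullback (IsPullback.of_hasPullback _ _).flip
  obtain ⟨K', k, hK₀, hk⟩ := hK.1.refine h2 (pullback.fst φ' ((und J).map T.g))
  have hK' := mem_T h3 h4 hK₀
  let π := k ≫ pullback.fst φ' ((und J).map T.g)
  haveI : Epi π := hk
  haveI := quasiIso_cech π
  let t : K' ⟶ (und J).obj T.X₂ := k ≫ pullback.snd _ _
  refine exists_lift_of_resolution (AlternatingFaceMapComplex.ε.app (frNerve π)) hT (h K' K π hK hK' hk 0) φ
    ((adj.homEquiv _ _).symm (WidePullback.π (fun _ : Fin (0 + 1) => (Arrow.mk π).hom) 0 ≫ t)) ?_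
  rw [show aug (AlternatingFaceMapComplex.ε.app (frNerve π)) = (frNerve π).hom.app (op ⦋0⦌) from
    AlternatingFaceMapComplex.ε_app_f_zero _]
  apply (adj.homEquiv _ _).injective
  rw [Adjunction.homEquiv_naturality_right]
  erw [Equiv.apply_symm_apply, adj.homEquiv_naturality_left]
  show (WidePullback.π (fun _ : Fin (0 + 1) => (Arrow.mk π).hom) 0 ≫ t) ≫ (und J).map T.g =
    WidePullback.base (fun _ : Fin (0 + 1) => (Arrow.mk π).hom) ≫ φ'
  have ht : t ≫ (und J).map T.g = π ≫ φ' := by
    rw [Category.assoc, ← pullback.condition, Category.assoc]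
  rw [Category.assoc, ht, ← Category.assoc]
  exact congrArg (· ≫ φ') (WidePullback.π_arrow (fun _ : Fin (0 + 1) => (Arrow.mk π).hom) 0)

include h2 h3 h4 in
theorem subsingleton_HK :
    ∀ (p : ℕ) (F : Sheaf J AddCommGrpCat.{u}), CechExact S F →
      ∀ K ∈ QcGen16.T S, Subsingleton (CohCx.HK K F (p + 1))
  | 0, F, h, K, hK => by
    obtain ⟨I, Q, i, p, w, hI, hS⟩ := exists_inj_seq F
    exact ext_one_eq_zero _ hS (exists_lift h2 h3 h4 hS h K hK) (subsingleton_ext_injective _ I 0)
  | p + 1, F, h, K, hK => by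
    obtain ⟨I, Q, i, π, w, hI, hS⟩ := exists_inj_seq F
    have hQ : CechExact S Q := fun K' K f hK hK' hf q => by
      haveI := quasiIso_cech f
      exact homExactAt_of_shortExact hS q (h K' K f hK hK' hf (q + 1))
        (homExactAt_injective (AlternatingFaceMapComplex.ε.app (frNerve f)) I q)
        (fun g => exists_lift h2 h3 h4 hS h _ (mem_T_nerve h4 f hK hK' (q + 1)) g)
    exact ext_shift₁ _ hS (p + 1) (subsingleton_HK p Q hQ K hK) (subsingleton_ext_injective _ I (p + 1))

theorem cechExact_of_injective {F : Sheaf J AddCommGrpCat.{u}} [Injective F] : CechExact S F :=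
  fun K' K f _ _ hf q => by
    haveI := quasiIso_cech f
    exact homExactAt_injective (AlternatingFaceMapComplex.ε.app (frNerve f)) F q

include h2 h4 h5 in
theorem cechExact_colimit {Λ : Type u} [SmallCategory Λ] [IsFiltered Λ] (D : Λ ⥤ Sheaf J AddCommGrpCat.{u})
    (h : ∀ i, CechExact S (D.obj i)) : CechExact S (colimit D) := fun K' K f hK hK' hf q x hx => by
  obtain ⟨i, y, hy⟩ := (hom_free h2 h4 h5 (mem_T_nerve h4 f hK hK' (q + 1)) D).1 x
  obtain ⟨j, g, hg⟩ := (hom_free h2 h4 h5 (mem_T_nerve h4 f hK hK' (q + 2)) D).2 i ((frCx f).d (q + 2) (q + 1) ≫ y)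
    (by rw [Category.assoc]; exact (congrArg _ hy).trans hx)
  obtain ⟨z, hz⟩ := h j K' K f hK hK' hf q (y ≫ D.map g) ((Category.assoc _ _ _).symm.trans hg)
  refine ⟨z ≫ colimit.ι D j, ?_⟩
  rw [← Category.assoc, hz, Category.assoc, colimit.w]
  exact hy

variable (h1 : ∃ K ∈ S, Epi (terminal.from K))

include h1 h2 h3 h4 h5 in
theorem preservesColimitsOfShape_functorH (Λ : Type u) [SmallCategory Λ] [IsFiltered Λ] (p : ℕ) :
    PreservesColimitsOfShape Λ (Sheaf.functorH J p : Sheaf J AddCommGrpCat.{u} ⥤ AddCommGrpCat.{u}) := by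
  let M := (frP J).obj (⊤_ (ToposFin.Sh J)).obj
  have hT : (⊤_ (Sheaf J (Type u))) ∈ QcGen16.T S := terminal_mem_T h3 h1
  have key : ∀ D : Λ ⥤ Sheaf J AddCommGrpCat.{u}, ExtColim.Surj M p D ∧ ExtColim.Inj M p D := fun D => by
    refine ExtColim.surj_and_inj M (fun D' => ?_) (fun D' hD q => ?_) p D
    · obtain ⟨hs, hi⟩ := hom_free h2 h4 h5 hT D'
      exact ⟨ExtColim.surj_zero hs, ExtColim.inj_zero hi⟩
    · exact subsingleton_HK h2 h3 h4 q _
        (cechExact_colimit h2 h4 h5 D' fun i => haveI := hD i; cechExact_of_injective) _ hT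
  haveI : ∀ D : Λ ⥤ Sheaf J AddCommGrpCat.{u},
      PreservesColimit D ((Abelian.extFunctor.{u} p).obj (Opposite.op M)) := fun D =>
    ExtColim.preservesColimit_extFunctor (key D).1 (key D).2
  haveI : PreservesColimitsOfShape Λ ((Abelian.extFunctor.{u} p).obj (Opposite.op M)) := ⟨fun {_} => inferInstance⟩
  obtain ⟨e⟩ := nonempty_freeTerminalIso (J := J)
  exact preservesColimitsOfShape_of_natIso
    (F := (Abelian.extFunctor.{u} p).obj (Opposite.op M)) ((Abelian.extFunctor.{u} p).mapIso e.symm.op)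

end Groth.Agent.QcGen16
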